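import Mathlib

set_option autoImplicit false

namespace Cfsg.Agent.Lib.Helper72.BS

open Subgroup Finset

section ring
variable {R : Type*} [Ring R]

/-- geometric sum -/
def gs (p : ℕ) (e : R) : R := ∑ k ∈ range p, e ^ k

theorem mul_gs {p : ℕ} {e : R} (he : e ^ p = 1) : e * gs p e = gs p e := by
  have h1 : (e - 1) * gs p e = 0 := by
    rw [gs, mul_geom_sum, he, sub_self]
  have : e * gs p e - gs p e = 0 := by rw [← h1]; noncomm_ring
  exact sub_eq_zero.mp this

theorem gs_mul {p : ℕ} {e : R} (he : e ^ p = 1) : gs p e * e = gs p e := by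
  have h1 : gs p e * (e - 1) = 0 := by
    rw [gs, geom_sum_mul, he, sub_self]
  have : gs p e * e - gs p e = 0 := by rw [← h1]; noncomm_ring
  exact sub_eq_zero.mp this

theorem gs_mul_pow {p : ℕ} {e : R} (he : e ^ p = 1) (k : ℕ) : gs p e * e ^ k = gs p e := by
  induction k with
  | zero => simp
  | succ k ih => rw [pow_succ, ← mul_assoc, ih, gs_mul he]

theorem gs_mul_gs {p : ℕ} {e : R} (he : e ^ p = 1) : gs p e * gs p e = (p : R) * gs p e := by
  have h1 : gs p e * gs p e = ∑ k ∈ range p, gs p e * e ^ k := by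
    conv_lhs => rw [show gs p e * gs p e = gs p e * ∑ k ∈ range p, e ^ k from rfl, mul_sum]
  rw [h1, sum_congr rfl (fun k _ => gs_mul_pow he k)]
  simp

/-- if `f = e * w` with `e, w` commuting then `gs e * gs f = gs e * gs w` -/
theorem gs_mul_gs_of_eq {p : ℕ} {e w : R} (he : e ^ p = 1) (hew : Commute e w) :
    gs p e * gs p (e * w) = gs p e * gs p w := by
  rw [show gs p e * gs p (e * w) = gs p e * ∑ k ∈ range p, (e * w) ^ k from rfl, mul_sum,
    show gs p e * gs p w = gs p e * ∑ k ∈ range p, w ^ k from rfl, mul_sum]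
  apply sum_congr rfl
  intro k _
  rw [hew.mul_pow, ← mul_assoc, gs_mul_pow he]

/-- the sum formula -/
theorem sum_gs {p : ℕ} {a z : R} (haz : Commute a z)
    (h0 : ∀ k, 0 < k → k < p → gs p (z ^ k) = 0) (hp : 0 < p) :
    ∑ i ∈ range p, gs p (a * z ^ i) = (p : R) := by
  have h1 : ∀ i, gs p (a * z ^ i) = ∑ k ∈ range p, a ^ k * (z ^ k) ^ i := by
    intro i
    rw [gs]
    apply sum_congr rfl
    intro k _
    rw [(haz.pow_right i).mul_pow, ← pow_mul, ← pow_mul, mul_comm i k]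
  simp only [h1]
  rw [sum_comm]
  have h2 : ∀ k ∈ range p, ∑ i ∈ range p, a ^ k * (z ^ k) ^ i = if k = 0 then (p : R) else 0 := by
    intro k hk
    rw [← mul_sum]
    change a ^ k * gs p (z ^ k) = _
    split_ifs with hk0
    · subst hk0
      simp [gs]
    · rw [h0 k (Nat.pos_of_ne_zero hk0) (mem_range.mp hk), mul_zero]
  rw [sum_congr rfl h2, sum_ite_eq' ]
  simp [hp]

end ring

theorem semiconj_gs {R : Type*} [Ring R] {p : ℕ} {X e f : R} (h : X * e = f * X) :
    X * gs p e = gs p f * X := by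
  rw [gs, gs, mul_sum, sum_mul]
  apply sum_congr rfl
  intro k _
  exact (SemiconjBy.pow_right (show SemiconjBy X e f from h) k)

theorem eq_zero_of_nsmul {V : Type*} [AddCommGroup V] [Finite V] {p : ℕ}
    (hcop : (Nat.card V).Coprime p) {v : V} (h : p • v = 0) : v = 0 := by
  have h1 : addOrderOf v ∣ Nat.card V := addOrderOf_dvd_natCard v
  have h2 : addOrderOf v ∣ p := addOrderOf_dvd_of_nsmul_eq_zero h
  have h3 := Nat.dvd_gcd h1 h2
  rw [hcop] at h3
  exact AddMonoid.addOrderOf_eq_one_iff.mp (Nat.dvd_one.mp h3)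

theorem gs_eq_zero {V : Type*} [AddCommGroup V] {p : ℕ} {e : Module.End ℤ V} (he : e ^ p = 1)
    (hfix : ∀ v : V, e v = v → v = 0) (v : V) : gs p e v = 0 := by
  apply hfix
  rw [← Module.End.mul_apply, mul_gs he]

theorem core_central {Γ V : Type*} [Group Γ] [AddCommGroup V] [Finite V] {p : ℕ} [Fact p.Prime]
    (ρ : Γ →* Module.End ℤ V) (hcop : (Nat.card V).Coprime p) (a z : Γ)
    (ha : a ^ p = 1) (hz : z ^ p = 1) (haz : a * z = z * a)
    (hfix : ∀ k : ℕ, 0 < k → k < p → ∀ v : V, ρ (z ^ k) v = v → v = 0)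
    (hfix' : ∀ i : ℕ, i < p → ∀ v : V, ρ (a * z ^ i) v = v → v = 0) (v : V) : v = 0 := by
  have hp : p.Prime := Fact.out
  have hA : (ρ a) ^ p = 1 := by rw [← map_pow, ha, map_one]
  have hZ : (ρ z) ^ p = 1 := by rw [← map_pow, hz, map_one]
  have hAZ : Commute (ρ a) (ρ z) := by
    change ρ a * ρ z = ρ z * ρ a
    rw [← map_mul, ← map_mul, haz]
  have h0 : ∀ k, 0 < k → k < p → gs p ((ρ z) ^ k) = 0 := by
    intro k hk0 hkp
    ext v
    apply gs_eq_zero
    · rw [← pow_mul, mul_comm, pow_mul, hZ, one_pow]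
    · intro v hv
      apply hfix k hk0 hkp v
      rw [map_pow]; exact hv
  have hsum := sum_gs hAZ h0 hp.pos
  apply eq_zero_of_nsmul hcop
  have h1 : p • v = (p : Module.End ℤ V) v := by simp
  rw [h1, ← hsum, LinearMap.sum_apply]
  apply sum_eq_zero
  intro i hi
  apply gs_eq_zero
  · rw [(hAZ.pow_right i).mul_pow, hA, ← pow_mul, mul_comm, pow_mul, hZ, one_pow, one_mul]
  · intro v hv
    apply hfix' i (mem_range.mp hi) v
    rw [map_mul, map_pow]; exact hv

theorem core_count {Γ V : Type*} [Group Γ] [AddCommGroup V] [Finite V] {p : ℕ} [Fact p.Prime]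
    (ρ : Γ →* Module.End ℤ V) (hcop : (Nat.card V).Coprime p) (a z g : Γ)
    (ha : a ^ p = 1) (hz : z ^ p = 1) (haz : a * z = z * a) (hgz : g * z = z * g)
    (hga : g * a * g⁻¹ = a * z)
    (hfix : ∀ k : ℕ, 0 < k → k < p → ∀ v : V, ρ (z ^ k) v = v → v = 0) :
    Nat.card {v : V // ρ g v = v} ^ p ≤ Nat.card V := by
  have hp : p.Prime := Fact.out
  have hA : (ρ a) ^ p = 1 := by rw [← map_pow, ha, map_one]
  have hZ : (ρ z) ^ p = 1 := by rw [← map_pow, hz, map_one]
  have hAZ : Commute (ρ a) (ρ z) := by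
    change ρ a * ρ z = ρ z * ρ a
    rw [← map_mul, ← map_mul, haz]
  have hGZ : Commute (ρ g) (ρ z) := by
    change ρ g * ρ z = ρ z * ρ g
    rw [← map_mul, ← map_mul, hgz]
  have hGA : ρ g * ρ a = ρ a * ρ z * ρ g := by
    rw [← map_mul, ← map_mul, ← map_mul, ← hga]
    congr 1
    group
  have h0 : ∀ k, 0 < k → k < p → gs p ((ρ z) ^ k) = 0 := by
    intro k hk0 hkp
    ext v
    apply gs_eq_zero
    · rw [← pow_mul, mul_comm, pow_mul, hZ, one_pow]
    · intro v hv
      apply hfix k hk0 hkp v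
      rw [map_pow]; exact hv
  have hsum := sum_gs hAZ h0 hp.pos
  have hE : ∀ i, (ρ a * ρ z ^ i) ^ p = 1 := by
    intro i
    rw [(hAZ.pow_right i).mul_pow, hA, ← pow_mul, mul_comm, pow_mul, hZ, one_pow, one_mul]
  have horth : ∀ i j, i < p → j < p → i ≠ j →
      gs p (ρ a * ρ z ^ j) * gs p (ρ a * ρ z ^ i) = 0 := by
    intro i j hi hj hij
    obtain ⟨k, hk0, hkp, hk⟩ : ∃ k, 0 < k ∧ k < p ∧ ρ z ^ i = ρ z ^ j * ρ z ^ k := by
      rcases lt_or_gt_of_ne hij with h | h
      · refine ⟨p + i - j, by omega, by omega, ?_⟩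
        rw [← pow_add, show j + (p + i - j) = p + i by omega, pow_add, hZ, one_mul]
      · refine ⟨i - j, by omega, by omega, ?_⟩
        rw [← pow_add, show j + (i - j) = i by omega]
    rw [hk, ← mul_assoc, gs_mul_gs_of_eq (hE j), h0 k hk0 hkp, mul_zero]
    exact Commute.mul_left (hAZ.pow_right k) ((Commute.refl (ρ z)).pow_pow j k)
  have hconj : ∀ i, ρ g ^ i * ρ a = (ρ a * ρ z ^ i) * ρ g ^ i := by
    intro i
    induction i with
    | zero => simp
    | succ i ih =>
      calc ρ g ^ (i + 1) * ρ a = ρ g * (ρ g ^ i * ρ a) := by rw [pow_succ', mul_assoc]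
        _ = (ρ g * ρ a) * ρ z ^ i * ρ g ^ i := by rw [ih]; noncomm_ring
        _ = ρ a * ρ z * (ρ g * ρ z ^ i) * ρ g ^ i := by rw [hGA]; noncomm_ring
        _ = ρ a * ρ z * (ρ z ^ i * ρ g) * ρ g ^ i := by rw [(hGZ.pow_right i).eq]
        _ = (ρ a * ρ z ^ (i + 1)) * ρ g ^ (i + 1) := by rw [pow_succ', pow_succ']; noncomm_ring
  have hfixpow : ∀ (v : V), ρ g v = v → ∀ i, (ρ g ^ i) v = v := by
    intro v hv i
    induction i with
    | zero => simp
    | succ i ih => rw [pow_succ, Module.End.mul_apply, hv, ih]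
  have hgs : ∀ (v : V), ρ g v = v → ∀ i, gs p (ρ a * ρ z ^ i) v = (ρ g ^ i) (gs p (ρ a) v) := by
    intro v hv i
    rw [← Module.End.mul_apply, semiconj_gs (hconj i), Module.End.mul_apply, hfixpow v hv i]
  have hinjG : ∀ i (x : V), (ρ g ^ i) x = 0 → x = 0 := by
    intro i x hx
    have h1 : ρ (g ^ i)⁻¹ * ρ g ^ i = 1 := by rw [← map_pow, ← map_mul, inv_mul_cancel, map_one]
    have h2 : x = (ρ (g ^ i)⁻¹ * ρ g ^ i) x := by rw [h1]; simp
    rw [h2, Module.End.mul_apply, hx, map_zero]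
  have hinj1 : ∀ v : V, ρ g v = v → gs p (ρ a) v = 0 → v = 0 := by
    intro v hv h
    apply eq_zero_of_nsmul hcop
    have h1 : p • v = (p : Module.End ℤ V) v := by simp
    rw [h1, ← hsum, LinearMap.sum_apply]
    apply sum_eq_zero
    intro i _
    rw [hgs v hv i, h, map_zero]
  have hcard : Nat.card (Fin p → {v : V // ρ g v = v}) = Nat.card {v : V // ρ g v = v} ^ p := by
    rw [Nat.card_fun, Nat.card_fin]
  rw [← hcard]
  apply Nat.card_le_card_of_injective
    (fun u : Fin p → {v : V // ρ g v = v} => ∑ i : Fin p, gs p (ρ a * ρ z ^ (i : ℕ)) (u i : V))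
  intro u u' huu
  funext j
  apply Subtype.ext
  have hw : ∀ i : Fin p, ρ g ((u i : V) - (u' i : V)) = (u i : V) - (u' i : V) := by
    intro i
    rw [map_sub, (u i).2, (u' i).2]
  have hdiff : ∑ i : Fin p, gs p (ρ a * ρ z ^ (i : ℕ)) ((u i : V) - (u' i : V)) = 0 := by
    simp only [map_sub, sum_sub_distrib]
    exact sub_eq_zero.mpr huu
  have h2 := congrArg (fun x : V => gs p (ρ a * ρ z ^ (j : ℕ)) x) hdiff
  rw [map_sum, map_zero, sum_eq_single j] at h2
  · rw [← Module.End.mul_apply, gs_mul_gs (hE j), Module.End.mul_apply] at h2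
    have h3 : gs p (ρ a * ρ z ^ (j : ℕ)) ((u j : V) - (u' j : V)) = 0 := by
      apply eq_zero_of_nsmul hcop
      simpa using h2
    rw [hgs _ (hw j)] at h3
    exact sub_eq_zero.mp (hinj1 _ (hw j) (hinjG _ _ h3))
  · intro i _ hij
    rw [← Module.End.mul_apply, horth i j i.2 j.2 (fun h => hij (Fin.ext h))]
    simp
  · intro h; exact absurd (mem_univ j) h

end Cfsg.Agent.Lib.Helper72.BS
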