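import Mathlib
import Cfsg.Agent.S0126
import Cfsg.Agent.Lib.Helper70.Kulakoff
import Cfsg.Agent.Lib.Helper72.BS.Core

set_option autoImplicit false

namespace Cfsg.Agent.Lib.Helper72.BS

open Subgroup Finset

theorem fix_central {Γ V : Type*} [Group Γ] [AddCommGroup V]
    (ρ : Γ →* Module.End ℤ V)
    (hirr : ∀ K : AddSubgroup V, (∀ g : Γ, ∀ w ∈ K, ρ g w ∈ K) → K = ⊥ ∨ K = ⊤)
    (hinj : Function.Injective ρ) (w : Γ) (hw : w ∈ center Γ) (hw1 : w ≠ 1) (v : V)
    (hv : ρ w v = v) : v = 0 := by
  let K : AddSubgroup V :=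
    { carrier := {v | ρ w v = v}
      add_mem' := by
        intro a b ha hb
        change ρ w (a + b) = a + b
        rw [map_add, show ρ w a = a from ha, show ρ w b = b from hb]
      zero_mem' := map_zero _
      neg_mem' := by
        intro a ha
        change ρ w (-a) = -a
        rw [map_neg, show ρ w a = a from ha] }
  have hK : ∀ g : Γ, ∀ x ∈ K, ρ g x ∈ K := by
    intro g x hx
    change ρ w (ρ g x) = ρ g x
    rw [← Module.End.mul_apply, ← map_mul, ← (mem_center_iff.mp hw g), map_mul,
      Module.End.mul_apply, show ρ w x = x from hx]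
  rcases hirr K hK with h | h
  · have : v ∈ K := hv
    rw [h] at this
    exact (AddSubgroup.mem_bot).mp this
  · exfalso
    apply hw1
    apply hinj
    rw [map_one]
    ext x
    have : x ∈ K := by rw [h]; exact AddSubgroup.mem_top x
    exact this

theorem exists_proper_add {Γ V : Type*} [Group Γ] [Finite Γ] [AddCommGroup V] [Finite V] {p : ℕ}
    [Fact p.Prime] (hp : p ≠ 2) (hΓ : IsPGroup p Γ) (ρ : Γ →* Module.End ℤ V)
    (hcop : (Nat.card V).Coprime p)
    (hirr : ∀ K : AddSubgroup V, (∀ g : Γ, ∀ w ∈ K, ρ g w ∈ K) → K = ⊥ ∨ K = ⊤)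
    (hinj : Function.Injective ρ) (hnt : Nontrivial Γ) :
    ∃ M : Subgroup Γ, M ≠ ⊤ ∧ ∀ g : Γ, g ∉ M → Nat.card {v : V // ρ g v = v} ^ p ≤ Nat.card V := by
  have hpp : p.Prime := Fact.out
  have hZ := fix_central ρ hirr hinj
  by_cases hcomm : ∀ x y : Γ, x * y = y * x
  · refine ⟨⊥, bot_ne_top, ?_⟩
    intro g hg
    have hg1 : g ≠ 1 := fun h => hg (by rw [h]; exact one_mem _)
    have hgc : g ∈ center Γ := mem_center_iff.mpr (fun x => hcomm x g)
    have hsub : Subsingleton {v : V // ρ g v = v} := by
      constructor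
      intro x y
      apply Subtype.ext
      rw [hZ g hgc hg1 x x.2, hZ g hgc hg1 y y.2]
    have h1 : Nat.card {v : V // ρ g v = v} ≤ 1 := Finite.card_le_one_iff_subsingleton.mpr hsub
    calc Nat.card {v : V // ρ g v = v} ^ p ≤ 1 ^ p := Nat.pow_le_pow_left h1 p
      _ = 1 := one_pow p
      _ ≤ Nat.card V := Nat.card_pos
  · have hnc : ¬ IsCyclic Γ := by
      intro hc
      apply hcomm
      intro x y
      exact (IsCyclic.commGroup (α := Γ)).mul_comm x y
    obtain ⟨E, hEn, hEel, hEcard⟩ := Cfsg.Agent.S0126.result hp hΓ hnc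
    have hord : ∀ z ∈ E, z ≠ 1 → orderOf z = p := fun z hz hz1 =>
      orderOf_eq_prime (hEel.2 z hz) hz1
    have hpowne : ∀ z ∈ E, z ≠ 1 → ∀ k, 0 < k → k < p → z ^ k ≠ 1 := by
      intro z hz hz1 k hk0 hkp
      apply pow_ne_one_of_lt_orderOf hk0.ne'
      rw [hord z hz hz1]; exact hkp
    by_cases hEc : E ≤ center Γ
    · exfalso
      have hEne : E ≠ ⊥ := by
        rintro rfl
        rw [card_bot] at hEcard
        have := Nat.one_lt_pow (n := 2) (by norm_num) hpp.one_lt
        omega
      obtain ⟨z, hzE, hz1⟩ : ∃ z ∈ E, z ≠ 1 := by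
        obtain ⟨z, hz⟩ := (Subgroup.ne_bot_iff_exists_ne_one).mp hEne
        exact ⟨(z : Γ), z.2, fun h => hz (Subtype.ext h)⟩
      have hex : ∃ a ∈ E, a ∉ zpowers z := by
        by_contra hcon
        push Not at hcon
        have hle : E ≤ zpowers z := hcon
        have h1 := card_le_of_le hle
        rw [hEcard, Nat.card_zpowers, hord z hzE hz1] at h1
        have : p < p ^ 2 := by nlinarith [hpp.one_lt]
        omega
      obtain ⟨a, haE, haz⟩ := hex
      have hall : ∀ v : V, v = 0 := by
        apply core_central ρ hcop a z (hEel.2 a haE) (hEel.2 z hzE)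
          ((mem_center_iff.mp (hEc hzE) a))
        · intro k hk0 hkp v hv
          exact hZ _ ((center Γ).pow_mem (hEc hzE) k) (hpowne z hzE hz1 k hk0 hkp) v hv
        · intro i _ v hv
          refine hZ _ ((center Γ).mul_mem (hEc haE) ((center Γ).pow_mem (hEc hzE) i)) ?_ v hv
          intro h
          apply haz
          rw [eq_inv_of_mul_eq_one_left h]
          exact (zpowers z).inv_mem ((zpowers z).pow_mem (mem_zpowers z) i)
      obtain ⟨x, y, hxy⟩ := hnt
      apply hxy
      apply hinj
      ext v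
      rw [hall v, map_zero, map_zero]
    · refine ⟨centralizer (E : Set Γ), ?_, ?_⟩
      · intro h
        exact hEc (centralizer_eq_top_iff_subset.mp h)
      · intro g hg
        rw [mem_centralizer_iff] at hg
        push Not at hg
        obtain ⟨a, haE, hag⟩ := hg
        have haE' : a ∈ E := haE
        set z := a⁻¹ * g * a * g⁻¹ with hz
        have hzE : z ∈ E := by
          have h1 : g * a * g⁻¹ ∈ E := hEn.conj_mem a haE' g
          have e : z = a⁻¹ * (g * a * g⁻¹) := by rw [hz]; group
          rw [e]; exact E.mul_mem (E.inv_mem haE') h1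
        have hzc : z ∈ center Γ := by
          have := Cfsg.Agent.Lib.Helper70.commutator_central_of_normal_card_sq hΓ E hEcard a⁻¹
            (E.inv_mem haE') g
          rwa [inv_inv] at this
        have hz1 : z ≠ 1 := by
          intro h
          apply hag
          calc a * g = a * (a⁻¹ * g * a * g⁻¹) * g := by rw [← hz, h]; group
            _ = g * a := by group
        apply core_count ρ hcop a z g (hEel.2 a haE') (hEel.2 z hzE) (mem_center_iff.mp hzc a)
          (mem_center_iff.mp hzc g) (by rw [hz]; group)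
        intro k hk0 hkp v hv
        exact hZ _ ((center Γ).pow_mem hzc k) (hpowne z hzE hz1 k hk0 hkp) v hv

end Cfsg.Agent.Lib.Helper72.BS
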