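import Mathlib
import Cfsg.Agent.Lib.Helper72.BS.Ladd

set_option autoImplicit false

namespace Cfsg.Agent.Lib.Helper72.BS

open Subgroup Finset

/-- automorphisms of a commutative group as additive endomorphisms -/
def toEnd (W : Type*) [CommGroup W] : MulAut W →* Module.End ℤ (Additive W) where
  toFun f := (MonoidHom.toAdditive f.toMonoidHom).toIntLinearMap
  map_one' := by ext; rfl
  map_mul' := by intros; ext; rfl

theorem toEnd_apply {W : Type*} [CommGroup W] (f : MulAut W) (v : Additive W) :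
    toEnd W f v = Additive.ofMul (f v.toMul) := rfl

theorem exists_proper_mul {Γ W : Type*} [Group Γ] [Finite Γ] [CommGroup W] [Finite W] {p : ℕ}
    [Fact p.Prime] (hp : p ≠ 2) (hΓ : IsPGroup p Γ) (φ : Γ →* MulAut W)
    (hcop : (Nat.card W).Coprime p)
    (hirr : ∀ K : Subgroup W, (∀ g : Γ, ∀ w ∈ K, φ g w ∈ K) → K = ⊥ ∨ K = ⊤)
    (hnt : ∃ g w, φ g w ≠ w) :
    ∃ M : Subgroup Γ, M ≠ ⊤ ∧ ∀ g : Γ, g ∉ M → Nat.card {w : W // φ g w = w} ^ p ≤ Nat.card W := by
  set ρ : Γ ⧸ φ.ker →* Module.End ℤ (Additive W) := (toEnd W).comp (QuotientGroup.kerLift φ) with hρ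
  have hρa : ∀ (g : Γ) (v : Additive W),
      ρ (QuotientGroup.mk g) v = Additive.ofMul (φ g v.toMul) := fun g v => rfl
  have hfin : Finite (Additive W) := inferInstanceAs (Finite W)
  have hcard : Nat.card (Additive W) = Nat.card W := Nat.card_congr Additive.toMul
  have hinj : Function.Injective ρ := by
    intro x y hxy
    apply QuotientGroup.kerLift_injective φ
    apply MulEquiv.ext
    intro w
    have h4 := congrArg (fun f : Module.End ℤ (Additive W) => f (Additive.ofMul w)) hxy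
    exact h4
  have hirr' : ∀ K : AddSubgroup (Additive W),
      (∀ q : Γ ⧸ φ.ker, ∀ w ∈ K, ρ q w ∈ K) → K = ⊥ ∨ K = ⊤ := by
    intro K hK
    have h1 := hirr (AddSubgroup.toSubgroup' K) (by
      intro g w hw
      exact hK (QuotientGroup.mk g) (Additive.ofMul w) hw)
    rcases h1 with h1 | h1
    · left
      exact (map_eq_bot_iff (AddSubgroup.toSubgroup' (G := W))).mp h1
    · right
      exact (map_eq_top_iff (AddSubgroup.toSubgroup' (G := W))).mp h1
  have hntQ : Nontrivial (Γ ⧸ φ.ker) := by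
    obtain ⟨g, w, hgw⟩ := hnt
    refine ⟨QuotientGroup.mk g, 1, ?_⟩
    intro h
    have h2 : g ∈ φ.ker := (QuotientGroup.eq_one_iff g).mp h
    have h3 : φ g = 1 := h2
    apply hgw
    rw [h3]; rfl
  obtain ⟨M, hM1, hM2⟩ := exists_proper_add hp (hΓ.to_quotient φ.ker) ρ
    (by rw [hcard]; exact hcop) hirr' hinj hntQ
  refine ⟨M.comap (QuotientGroup.mk' φ.ker), ?_, ?_⟩
  · intro h
    apply hM1
    apply comap_injective (QuotientGroup.mk'_surjective φ.ker)
    rw [h, comap_top]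
  · intro g hg
    have h1 := hM2 (QuotientGroup.mk g) hg
    rw [hcard] at h1
    have e : Nat.card {w : W // φ g w = w}
        = Nat.card {v : Additive W // ρ (QuotientGroup.mk g) v = v} := by
      apply Nat.card_congr
      exact ⟨fun w => ⟨Additive.ofMul w.1, congrArg Additive.ofMul w.2⟩,
        fun v => ⟨v.1.toMul, congrArg Additive.toMul v.2⟩, fun _ => rfl, fun _ => rfl⟩
    rw [e]; exact h1

/-- commutative group structure from a commutativity proof -/
@[reducible] def commGroupOf {W : Type*} [Group W] (h : ∀ a b : W, a * b = b * a) : CommGroup W :=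
  { ‹Group W› with mul_comm := h }

theorem exists_proper_amb {G : Type*} [Group G] [Finite G] {p : ℕ} [Fact p.Prime] (hp : p ≠ 2)
    (P N : Subgroup G) [N.Normal] (hP : IsPGroup p P)
    (hcomm : ∀ a ∈ N, ∀ b ∈ N, a * b = b * a) (hcop : (Nat.card N).Coprime p)
    (hirr : ∀ K : Subgroup G, K ≤ N → (∀ g ∈ P, ∀ w ∈ K, g * w * g⁻¹ ∈ K) → K = ⊥ ∨ K = N)
    (hnt : ∃ g ∈ P, ∃ w ∈ N, g * w ≠ w * g) :
    ∃ M : Subgroup G, ¬ P ≤ M ∧ ∀ g ∈ P, g ∉ M →
      Nat.card {w : G // w ∈ N ∧ g * w = w * g} ^ p ≤ Nat.card N := by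
  let _ : CommGroup N := commGroupOf (fun a b => Subtype.ext (hcomm a a.2 b b.2))
  set φ : P →* MulAut N := (MulAut.conjNormal).comp P.subtype with hφ
  have hφa : ∀ (g : P) (w : N), ((φ g w : N) : G) = g * w * (g : G)⁻¹ := fun g w => rfl
  have hirr' : ∀ K : Subgroup N, (∀ g : P, ∀ w ∈ K, φ g w ∈ K) → K = ⊥ ∨ K = ⊤ := by
    intro K hK
    have h1 := hirr (K.map N.subtype) (map_subtype_le K) (by
      rintro g hg _ ⟨w, hw, rfl⟩
      exact ⟨φ ⟨g, hg⟩ w, hK ⟨g, hg⟩ w hw, rfl⟩)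
    rcases h1 with h1 | h1
    · left
      exact (map_eq_bot_iff_of_injective K N.subtype_injective).mp h1
    · right
      apply map_injective N.subtype_injective
      rw [h1, ← MonoidHom.range_eq_map, range_subtype]
  have hnt' : ∃ (g : P) (w : N), φ g w ≠ w := by
    obtain ⟨g, hg, w, hw, hgw⟩ := hnt
    refine ⟨⟨g, hg⟩, ⟨w, hw⟩, ?_⟩
    intro h
    apply hgw
    have h2 := congrArg Subtype.val h
    rw [hφa] at h2
    calc g * w = (g * w * g⁻¹) * g := by group
      _ = w * g := by rw [show g * w * g⁻¹ = w from h2]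
  obtain ⟨M, hM1, hM2⟩ := exists_proper_mul hp hP φ hcop hirr' hnt'
  refine ⟨M.map P.subtype, ?_, ?_⟩
  · intro h
    apply hM1
    rw [eq_top_iff]
    intro g _
    obtain ⟨m, hm, hmg⟩ := h g.2
    have : m = g := Subtype.ext hmg
    rw [← this]; exact hm
  · intro g hg hgM
    have hgM' : (⟨g, hg⟩ : P) ∉ M := fun h => hgM ⟨⟨g, hg⟩, h, rfl⟩
    have h1 := hM2 ⟨g, hg⟩ hgM'
    have e : Nat.card {w : G // w ∈ N ∧ g * w = w * g} = Nat.card {w : N // φ ⟨g, hg⟩ w = w} := by
      apply Nat.card_congr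
      refine ⟨fun w => ⟨⟨w.1, w.2.1⟩, ?_⟩, fun w => ⟨w.1.1, w.1.2, ?_⟩, fun w => rfl, fun w => rfl⟩
      · apply Subtype.ext
        rw [hφa]
        change g * w.1 * g⁻¹ = w.1
        rw [w.2.2]; group
      · have h2 := congrArg Subtype.val w.2
        rw [hφa] at h2
        calc g * w.1.1 = (g * w.1.1 * g⁻¹) * g := by group
          _ = w.1.1 * g := by rw [show g * w.1.1 * g⁻¹ = w.1.1 from h2]
    rw [e]; exact h1

end Cfsg.Agent.Lib.Helper72.BS
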