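import Mathlib
import Cfsg.Agent.Lib.Helper30.Coprime

set_option autoImplicit false

namespace Cfsg.Agent.Lib.Helper72.BS

open Subgroup

theorem eq_of_forall_isSylowIn_le {G : Type*} [Group G] [Finite G] (N H : Subgroup G) (hHN : H ≤ N)
    (h : ∀ q : ℕ, ∀ _ : Fact q.Prime, ∃ Q : Subgroup G, Cfsg.Agent.Lib.Helper30.IsSylowIn q Q N ∧ Q ≤ H) :
    H = N := by
  have h1 : H.relIndex N = 1 := by
    by_contra hne
    obtain ⟨q, hq, hdvd⟩ := Nat.exists_prime_and_dvd hne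
    obtain ⟨Q, hQ, hQH⟩ := h q ⟨hq⟩
    exact hQ.not_dvd (hdvd.trans (relIndex_dvd_of_le_left N hQH))
  exact le_antisymm hHN (relIndex_eq_one.mp h1)

theorem comm_of_conj_mem {G : Type*} [Group G] (N P : Subgroup G) [N.Normal] (hdisj : N ⊓ P = ⊥)
    (t c : G) (ht : t ∈ N) (hc : c ∈ P) (h : t * c * t⁻¹ ∈ P) : c * t = t * c := by
  have h1 : t * c * t⁻¹ * c⁻¹ ∈ N ⊓ P := by
    refine mem_inf.mpr ⟨?_, P.mul_mem h (P.inv_mem hc)⟩
    have h2 : c * t⁻¹ * c⁻¹ ∈ N := Normal.conj_mem inferInstance _ (N.inv_mem ht) c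
    have e : t * c * t⁻¹ * c⁻¹ = t * (c * t⁻¹ * c⁻¹) := by group
    rw [e]; exact N.mul_mem ht h2
  rw [hdisj, mem_bot] at h1
  calc c * t = (t * c * t⁻¹ * c⁻¹)⁻¹ * (t * c) := by group
    _ = t * c := by rw [h1]; simp

theorem fact {G : Type*} [Group G] [Finite G] {p : ℕ} [Fact p.Prime] (N P : Subgroup G) [N.Normal]
    (hP : IsPGroup p P) (hcop : (Nat.card N).Coprime p) (c d : G) (hc : c ∈ P) (hd : d ∈ P)
    (x : G) (hx : x ∈ N) (h : IsPGroup p (closure ({x * c * x⁻¹, d} : Set G))) :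
    ∃ y ∈ N, d * y = y * d ∧ c * (y * x) = (y * x) * c := by
  have hp : p.Prime := Fact.out
  have hcopNP : (Nat.card N).Coprime (Nat.card P) := by
    obtain ⟨k, hk⟩ := IsPGroup.iff_card.mp hP
    rw [hk]
    exact Nat.Coprime.pow_right k hcop
  have hdisj : N ⊓ P = ⊥ := (disjoint_of_coprime_natCard hcopNP).eq_bot
  have hPK : P ≤ N ⊔ P := le_sup_right
  have hNK : N ≤ N ⊔ P := le_sup_left
  have hrel : P.relIndex (N ⊔ P) = Nat.card N := by
    have e1 := Cfsg.Agent.Lib.Helper30.card_sup_eq_mul N P hdisj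
    have e2 := Cfsg.Agent.Lib.Helper30.card_eq_card_mul_relIndex hPK
    have hpos : 0 < Nat.card P := Nat.card_pos
    apply Nat.eq_of_mul_eq_mul_left hpos
    rw [← e2, e1, mul_comm]
  have hPsyl : Cfsg.Agent.Lib.Helper30.IsSylowIn p P (N ⊔ P) := by
    refine ⟨hPK, hP, ?_⟩
    rw [hrel]
    intro hdvd
    have := Nat.Coprime.eq_one_of_dvd hcop.symm hdvd
    exact hp.one_lt.ne' this
  have hUK : closure ({x * c * x⁻¹, d} : Set G) ≤ N ⊔ P := by
    rw [closure_le]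
    rintro w (rfl | rfl)
    · exact mul_mem (mul_mem (hNK hx) (hPK hc)) (inv_mem (hNK hx))
    · exact hPK hd
  obtain ⟨S, hS, hUS⟩ := Cfsg.Agent.Lib.Helper30.exists_isSylowIn_ge hUK h
  obtain ⟨k, hk, hSk⟩ := hPsyl.conj hS
  obtain ⟨n, hn, u, hu, rfl⟩ := Cfsg.Agent.Lib.Helper30.mem_sup_normal_left.mp hk
  rw [Cfsg.Agent.Lib.Helper30.cj_mul, Cfsg.Agent.Lib.Helper30.cj_eq_of_mem hu] at hSk
  have hU : ∀ w ∈ closure ({x * c * x⁻¹, d} : Set G), n⁻¹ * w * n ∈ P := by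
    intro w hw
    have := hUS hw
    rw [hSk] at this
    exact Cfsg.Agent.Lib.Helper30.mem_cj.mp this
  refine ⟨n⁻¹, N.inv_mem hn, ?_, ?_⟩
  · apply comm_of_conj_mem N P hdisj _ _ (N.inv_mem hn) hd
    have := hU d (subset_closure (by simp))
    simpa using this
  · apply comm_of_conj_mem N P hdisj _ _ (N.mul_mem (N.inv_mem hn) hx) hc
    have := hU (x * c * x⁻¹) (subset_closure (by simp))
    have e : n⁻¹ * x * c * (n⁻¹ * x)⁻¹ = n⁻¹ * (x * c * x⁻¹) * n := by group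
    rw [e]; exact this

theorem card_le_of_fact {G : Type*} [Group G] [Finite G] {p : ℕ} [Fact p.Prime] (N P : Subgroup G)
    [N.Normal] (hP : IsPGroup p P) (hcop : (Nat.card N).Coprime p) (c d : G) (hc : c ∈ P)
    (hd : d ∈ P) (h : ∀ x ∈ N, IsPGroup p (closure ({x * c * x⁻¹, d} : Set G))) :
    Nat.card N ≤ Nat.card {w : G // w ∈ N ∧ d * w = w * d} *
      Nat.card {w : G // w ∈ N ∧ c * w = w * c} := by
  rw [← Nat.card_prod]
  have hex : ∀ x : N, ∃ uv : {w : G // w ∈ N ∧ d * w = w * d} × {w : G // w ∈ N ∧ c * w = w * c},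
      (uv.1 : G) * (uv.2 : G) = x := by
    intro x
    obtain ⟨y, hy, h1, h2⟩ := fact N P hP hcop c d hc hd x x.2 (h x x.2)
    refine ⟨(⟨y⁻¹, N.inv_mem hy, ?_⟩, ⟨y * x, N.mul_mem hy x.2, h2⟩), by simp⟩
    calc d * y⁻¹ = y⁻¹ * (y * d) * y⁻¹ := by group
      _ = y⁻¹ * (d * y) * y⁻¹ := by rw [h1]
      _ = y⁻¹ * d := by group
  choose F hF using hex
  apply Nat.card_le_card_of_injective F
  intro x x' hxx
  apply Subtype.ext
  rw [← hF x, ← hF x', hxx]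

end Cfsg.Agent.Lib.Helper72.BS
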